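import Mathlib
import Groth.Agent.Lib.Helper8.ExtLoc1

/-!
# Projective dimension of the localization of a module with a minimal finite free resolution
(helper2)

`S` a Noetherian ring, `𝔪` a prime ideal, and a resolution of `M` by finite free modules given by
matrices `d i` with entries in `𝔪`, of length exactly `ℓ`.  Then the localization of `M` at `𝔪` has
projective dimension exactly `ℓ`.
-/

set_option autoImplicit false
universe u

namespace Groth.Agent.Helper2.GrAB

open CategoryTheory Abelian Groth.Agent.Helper8.ExtLoc

section LocSES

variable {S : Type u} [CommRing S] (W : Submonoid S)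
  {X₁ X₂ X₃ : Type u} [AddCommGroup X₁] [Module S X₁] [AddCommGroup X₂] [Module S X₂]
  [AddCommGroup X₃] [Module S X₃] (f : X₁ →ₗ[S] X₂) (g : X₂ →ₗ[S] X₃)

lemma locLin_injective (hf : Function.Injective f) : Function.Injective (locLin W f) := by
  have h := IsLocalizedModule.map_injective W (LocalizedModule.mkLinearMap W X₁)
    (LocalizedModule.mkLinearMap W X₂) f hf
  intro a b hab
  apply h
  rw [IsLocalizedModule.mapExtendScalars_apply_apply,
    IsLocalizedModule.mapExtendScalars_apply_apply] at hab
  exact hab

lemma locLin_surjective (hg : Function.Surjective g) : Function.Surjective (locLin W g) := by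
  have h := IsLocalizedModule.map_surjective W (LocalizedModule.mkLinearMap W X₂)
    (LocalizedModule.mkLinearMap W X₃) g hg
  intro y
  obtain ⟨x, hx⟩ := h y
  exact ⟨x, by rw [IsLocalizedModule.mapExtendScalars_apply_apply]; exact hx⟩

lemma locLin_exact (hfg : Function.Exact f g) : Function.Exact (locLin W f) (locLin W g) := by
  have h := IsLocalizedModule.map_exact W (LocalizedModule.mkLinearMap W X₁)
    (LocalizedModule.mkLinearMap W X₂) (LocalizedModule.mkLinearMap W X₃) f g hfg
  intro y
  rw [IsLocalizedModule.mapExtendScalars_apply_apply]
  rw [h y]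
  constructor
  · rintro ⟨x, hx⟩
    exact ⟨x, by rw [IsLocalizedModule.mapExtendScalars_apply_apply]; exact hx⟩
  · rintro ⟨x, hx⟩
    rw [IsLocalizedModule.mapExtendScalars_apply_apply] at hx
    exact ⟨x, hx⟩

/-- the localized short exact sequence -/
noncomputable def locSC (hfg : Function.Exact f g) :
    ShortComplex (ModuleCat.{u} (Localization W)) :=
  ModuleCat.shortComplexOfCompEqZero (locLin W f) (locLin W g)
    (locLin_exact W f g hfg).linearMap_comp_eq_zero

lemma locSC_shortExact (hf : Function.Injective f) (hg : Function.Surjective g)
    (hfg : Function.Exact f g) : (locSC W f g hfg).ShortExact :=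
  ModuleCat.shortComplex_shortExact _ (locLin_exact W f g hfg) (locLin_injective W f hf)
    (locLin_surjective W g hg)

lemma projective_loc_of_free (X : Type u) [AddCommGroup X] [Module S X] [Module.Free S X] :
    Projective (ModuleCat.of (Localization W) (LocalizedModule W X)) := by
  haveI : Module.Free (Localization W) (LocalizedModule W X) :=
    Module.free_of_isLocalizedModule W (LocalizedModule.mkLinearMap W X)
  exact (IsProjective.iff_projective _).mp inferInstance

/-- dimension shifting up -/
lemma pdLT_X₃ [Module.Free S X₂] (hf : Function.Injective f) (hg : Function.Surjective g)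
    (hfg : Function.Exact f g) (n : ℕ)
    (h₁ : HasProjectiveDimensionLT (ModuleCat.of (Localization W) (LocalizedModule W X₁)) n) :
    HasProjectiveDimensionLT (ModuleCat.of (Localization W) (LocalizedModule W X₃)) (n + 1) := by
  haveI := projective_loc_of_free W X₂
  have h₂ : HasProjectiveDimensionLT (ModuleCat.of (Localization W) (LocalizedModule W X₂))
      (n + 1) := hasProjectiveDimensionLT_of_ge _ 1 (n + 1) (by omega)
  exact (locSC_shortExact W f g hf hg hfg).hasProjectiveDimensionLT_X₃ n h₁ h₂

/-- dimension shifting down -/
lemma pdLT_X₁ [Module.Free S X₂] (hf : Function.Injective f) (hg : Function.Surjective g)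
    (hfg : Function.Exact f g) (n : ℕ)
    (h₃ : HasProjectiveDimensionLT (ModuleCat.of (Localization W) (LocalizedModule W X₃))
      (n + 2)) :
    HasProjectiveDimensionLT (ModuleCat.of (Localization W) (LocalizedModule W X₁)) (n + 1) := by
  haveI := projective_loc_of_free W X₂
  have h₂ : HasProjectiveDimensionLT (ModuleCat.of (Localization W) (LocalizedModule W X₂))
      (n + 1) := hasProjectiveDimensionLT_of_ge _ 1 (n + 1) (by omega)
  exact (locSC_shortExact W f g hf hg hfg).hasProjectiveDimensionLT_X₁ (n + 1) h₂ h₃

end LocSES

end Groth.Agent.Helper2.GrAB
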