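import Mathlib
import Groth.Agent.Lib.Helper2.GrAB.LocRes

/-!
# Projective dimension of the localization of a module with a minimal finite free resolution, II
(helper2)
-/

set_option autoImplicit false
universe u

namespace Groth.Agent.Helper2.GrAB

open CategoryTheory Abelian Groth.Agent.Helper8.ExtLoc

section Res

variable {S : Type u} [CommRing S] (𝔪 : Ideal S) [h𝔪 : 𝔪.IsPrime]
  {M : Type u} [AddCommGroup M] [Module S M]
  (rk : ℕ → ℕ) (d : ∀ i, Matrix (Fin (rk i)) (Fin (rk (i + 1))) S) (aug : Fin (rk 0) → M)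

/-- the image of the `i`-th differential -/
def Kr (i : ℕ) : Submodule S (Fin (rk i) → S) := LinearMap.range (Matrix.mulVecLin (d i))

/-- the corestricted differential -/
def dR (i : ℕ) : (Fin (rk (i + 1)) → S) →ₗ[S] Kr rk d i :=
  (Matrix.mulVecLin (d i)).rangeRestrict

lemma dR_surjective (i : ℕ) : Function.Surjective (dR rk d i) :=
  LinearMap.surjective_rangeRestrict _

lemma coe_dR (i : ℕ) (v : Fin (rk (i + 1)) → S) :
    ((dR rk d i v : Kr rk d i) : Fin (rk i) → S) = Matrix.mulVecLin (d i) v := rfl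

variable (hs : ∀ i, LinearMap.ker (Matrix.mulVecLin (d i)) =
  LinearMap.range (Matrix.mulVecLin (d (i + 1))))

include hs in
lemma exact_step (j : ℕ) : Function.Exact (Kr rk d (j + 1)).subtype (dR rk d j) := by
  intro v
  constructor
  · intro hv
    have h1 : Matrix.mulVecLin (d j) v = 0 := by
      rw [← coe_dR, hv]; rfl
    have hmem : v ∈ LinearMap.range (Matrix.mulVecLin (d (j + 1))) := by
      rw [← hs j]; exact h1
    exact ⟨⟨v, hmem⟩, rfl⟩
  · rintro ⟨⟨w, hw⟩, rfl⟩
    apply Subtype.ext
    rw [coe_dR]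
    have h1 : w ∈ LinearMap.ker (Matrix.mulVecLin (d j)) := by
      rw [hs j]; exact hw
    exact h1

include hs in
/-- upper bound on the projective dimension of the syzygies -/
theorem pdLT_Kr_of_eq_bot : ∀ (m j : ℕ), Kr rk d (j + m) = ⊥ →
    HasProjectiveDimensionLT (ModuleCat.of (Localization.AtPrime 𝔪)
      (LocalizedModule 𝔪.primeCompl (Kr rk d j))) m := by
  intro m
  induction m with
  | zero =>
    intro j hj
    rw [add_zero] at hj
    haveI : Subsingleton (Kr rk d j) := by
      rw [hj]; infer_instance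
    haveI : Subsingleton (LocalizedModule 𝔪.primeCompl (Kr rk d j)) :=
      ⟨fun a b => by
        induction a using LocalizedModule.induction_on with
        | h a s =>
          induction b using LocalizedModule.induction_on with
          | h b t => rw [Subsingleton.elim a 0, Subsingleton.elim b 0, LocalizedModule.zero_mk,
              LocalizedModule.zero_mk]⟩
    exact (ModuleCat.isZero_of_subsingleton _).hasProjectiveDimensionLT_zero
  | succ m ih =>
    intro j hj
    have h1 := ih (j + 1) (by rw [show j + 1 + m = j + (m + 1) by omega]; exact hj)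
    exact pdLT_X₃ 𝔪.primeCompl (Kr rk d (j + 1)).subtype (dR rk d j)
      (Submodule.subtype_injective _) (dR_surjective rk d j) (exact_step rk d hs j) m h1

include hs in
/-- dimension shifting down along the syzygies -/
theorem pdLT_Kr_shift : ∀ (m j : ℕ),
    HasProjectiveDimensionLT (ModuleCat.of (Localization.AtPrime 𝔪)
      (LocalizedModule 𝔪.primeCompl (Kr rk d j))) (m + 1) →
    HasProjectiveDimensionLT (ModuleCat.of (Localization.AtPrime 𝔪)
      (LocalizedModule 𝔪.primeCompl (Kr rk d (j + m)))) 1 := by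
  intro m
  induction m with
  | zero =>
    intro j hj
    exact hj
  | succ m ih =>
    intro j hj
    have h1 := pdLT_X₁ 𝔪.primeCompl (Kr rk d (j + 1)).subtype (dR rk d j)
      (Submodule.subtype_injective _) (dR_surjective rk d j) (exact_step rk d hs j) m hj
    have h2 := ih (j + 1) h1
    rw [show j + 1 + m = j + (m + 1) by omega] at h2
    exact h2

end Res

section Key

variable {S : Type u} [CommRing S] [IsNoetherianRing S] (𝔪 : Ideal S) [h𝔪 : 𝔪.IsPrime]

omit [IsNoetherianRing S] in
lemma mk_mem_smul_top {P : Type u} [AddCommGroup P] [Module S P] (p : P)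
    (hp : p ∈ 𝔪 • (⊤ : Submodule S P)) (s : 𝔪.primeCompl) :
    LocalizedModule.mk p s ∈ IsLocalRing.maximalIdeal (Localization.AtPrime 𝔪) •
      (⊤ : Submodule (Localization.AtPrime 𝔪) (LocalizedModule 𝔪.primeCompl P)) := by
  have h1 : LocalizedModule.mk p (1 : 𝔪.primeCompl) ∈
      IsLocalRing.maximalIdeal (Localization.AtPrime 𝔪) •
      (⊤ : Submodule (Localization.AtPrime 𝔪) (LocalizedModule 𝔪.primeCompl P)) := by
    refine Submodule.smul_induction_on hp (fun a ha x _ => ?_) (fun x y hx hy => ?_)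
    · have h2 : LocalizedModule.mk (a • x) (1 : 𝔪.primeCompl) =
          (algebraMap S (Localization.AtPrime 𝔪) a) • LocalizedModule.mk x (1 : 𝔪.primeCompl) := by
        rw [← Localization.mk_one_eq_algebraMap, LocalizedModule.mk_smul_mk, one_mul]
      rw [h2]
      refine Submodule.smul_mem_smul ?_ Submodule.mem_top
      exact (IsLocalization.AtPrime.to_map_mem_maximal_iff (Localization.AtPrime 𝔪) 𝔪 a).mpr ha
    · have h2 : LocalizedModule.mk (x + y) (1 : 𝔪.primeCompl) =
          LocalizedModule.mk x (1 : 𝔪.primeCompl) + LocalizedModule.mk y (1 : 𝔪.primeCompl) := by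
        rw [LocalizedModule.mk_add_mk, one_smul, one_smul, one_mul]
      rw [h2]
      exact Submodule.add_mem _ hx hy
  have h3 : LocalizedModule.mk p s = (Localization.mk (1 : S) s) •
      LocalizedModule.mk p (1 : 𝔪.primeCompl) := by
    rw [LocalizedModule.mk_smul_mk, one_smul, mul_one]
  rw [h3]
  exact Submodule.smul_mem _ _ h1

/-- the key Nakayama argument: a submodule of `𝔪 P` which becomes a direct summand after
localization at `𝔪` vanishes after localization -/
theorem subsingleton_loc_of_projective {P X₃ : Type u} [AddCommGroup P] [Module S P]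
    [Module.Finite S P] [AddCommGroup X₃] [Module S X₃]
    (K₁ : Submodule S P) (hK : K₁ ≤ 𝔪 • (⊤ : Submodule S P)) (g : P →ₗ[S] X₃)
    (hg : Function.Surjective g) (hex : Function.Exact K₁.subtype g)
    (hproj : Projective (ModuleCat.of (Localization.AtPrime 𝔪)
      (LocalizedModule 𝔪.primeCompl X₃))) :
    Subsingleton (LocalizedModule 𝔪.primeCompl K₁) := by
  haveI : IsNoetherian S P := isNoetherian_of_isNoetherianRing_of_finite S P
  haveI : Module.Finite S K₁ := Module.Finite.of_fg (IsNoetherian.noetherian K₁)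
  haveI hprojM : Module.Projective (Localization.AtPrime 𝔪) (LocalizedModule 𝔪.primeCompl X₃) :=
    (IsProjective.iff_projective _).mpr hproj
  set ι' := locLin 𝔪.primeCompl K₁.subtype with hι'
  set g' := locLin 𝔪.primeCompl g with hg'
  have hinj : Function.Injective ι' := locLin_injective _ _ (Submodule.subtype_injective _)
  have hsurj : Function.Surjective g' := locLin_surjective _ _ hg
  have hexact : Function.Exact ι' g' := locLin_exact _ _ _ hex
  obtain ⟨σ, hσ⟩ := Module.projective_lifting_property g' LinearMap.id hsurj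
  -- the projection onto the image of `ι'`
  let π : LocalizedModule 𝔪.primeCompl P →ₗ[Localization.AtPrime 𝔪]
      LocalizedModule 𝔪.primeCompl P := LinearMap.id - σ ∘ₗ g'
  have hπ : ∀ x, π x ∈ LinearMap.range ι' := by
    intro x
    rw [← hexact.linearMap_ker_eq, LinearMap.mem_ker]
    have h1 : g' (σ (g' x)) = g' x := LinearMap.congr_fun hσ (g' x)
    simp only [π, LinearMap.sub_apply, LinearMap.id_apply, LinearMap.comp_apply, map_sub, h1,
      sub_self]
  let ρ : LocalizedModule 𝔪.primeCompl P →ₗ[Localization.AtPrime 𝔪]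
      LocalizedModule 𝔪.primeCompl K₁ :=
    (LinearEquiv.ofInjective ι' hinj).symm.toLinearMap ∘ₗ π.codRestrict (LinearMap.range ι') hπ
  have hρ : ∀ y, ρ (ι' y) = y := by
    intro y
    simp only [ρ, LinearMap.comp_apply, LinearEquiv.coe_coe]
    rw [LinearEquiv.symm_apply_eq]
    apply Subtype.ext
    rw [LinearMap.codRestrict_apply, LinearEquiv.ofInjective_apply]
    have h1 : g' (ι' y) = 0 := hexact.apply_apply_eq_zero y
    simp only [π, LinearMap.sub_apply, LinearMap.id_apply, LinearMap.comp_apply, h1, map_zero,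
      sub_zero]
  have hle : (⊤ : Submodule (Localization.AtPrime 𝔪) (LocalizedModule 𝔪.primeCompl K₁)) ≤
      IsLocalRing.maximalIdeal (Localization.AtPrime 𝔪) •
        (⊤ : Submodule (Localization.AtPrime 𝔪) (LocalizedModule 𝔪.primeCompl K₁)) := by
    intro y _
    have h1 : ι' y ∈ IsLocalRing.maximalIdeal (Localization.AtPrime 𝔪) •
        (⊤ : Submodule (Localization.AtPrime 𝔪) (LocalizedModule 𝔪.primeCompl P)) := by
      induction y using LocalizedModule.induction_on with
      | h k s =>
        rw [hι', locLin_mk]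
        exact mk_mem_smul_top 𝔪 _ (hK k.2) s
    have h2 : ρ (ι' y) ∈ Submodule.map ρ (IsLocalRing.maximalIdeal (Localization.AtPrime 𝔪) •
        (⊤ : Submodule (Localization.AtPrime 𝔪) (LocalizedModule 𝔪.primeCompl P))) :=
      Submodule.mem_map_of_mem h1
    rw [Submodule.map_smul'', hρ] at h2
    exact Submodule.smul_mono le_rfl le_top h2
  have hbot := Submodule.eq_bot_of_le_smul_of_le_jacobson_bot
    (IsLocalRing.maximalIdeal (Localization.AtPrime 𝔪))
    (⊤ : Submodule (Localization.AtPrime 𝔪) (LocalizedModule 𝔪.primeCompl K₁))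
    Module.Finite.fg_top hle (IsLocalRing.maximalIdeal_le_jacobson _)
  refine ⟨fun a b => ?_⟩
  have ha : a ∈ (⊤ : Submodule (Localization.AtPrime 𝔪) (LocalizedModule 𝔪.primeCompl K₁)) :=
    Submodule.mem_top
  have hb : b ∈ (⊤ : Submodule (Localization.AtPrime 𝔪) (LocalizedModule 𝔪.primeCompl K₁)) :=
    Submodule.mem_top
  rw [hbot, Submodule.mem_bot] at ha hb
  rw [ha, hb]

omit [IsNoetherianRing S] in
/-- a nonzero finite free module injects into nothing that vanishes after localization -/
theorem not_subsingleton_loc_of_injective {r : ℕ} (hr : r ≠ 0) {X : Type u} [AddCommGroup X]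
    [Module S X] (φ : (Fin r → S) →ₗ[S] X) (hφ : Function.Injective φ) :
    ¬ Subsingleton (LocalizedModule 𝔪.primeCompl X) := by
  intro hsub
  obtain ⟨r', rfl⟩ := Nat.exists_eq_succ_of_ne_zero hr
  let b : Fin (r' + 1) := 0
  have h1 : LocalizedModule.mk (φ (Pi.single b 1)) (1 : 𝔪.primeCompl) =
      LocalizedModule.mk 0 (1 : 𝔪.primeCompl) := Subsingleton.elim _ _
  rw [LocalizedModule.mk_eq] at h1
  obtain ⟨t, ht⟩ := h1
  rw [one_smul, one_smul, smul_zero] at ht
  have ht' : (t : S) • φ (Pi.single b 1) = 0 := ht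
  rw [← map_smul] at ht'
  have h2 : (t : S) • (Pi.single b 1 : Fin (r' + 1) → S) = 0 := by
    apply hφ
    rw [map_zero]
    exact ht'
  have h3 := congrFun h2 b
  rw [Pi.smul_apply, Pi.single_eq_same, smul_eq_mul, mul_one, Pi.zero_apply] at h3
  exact t.2 (h3 ▸ 𝔪.zero_mem)

end Key

section Main

variable {S : Type u} [CommRing S] [IsNoetherianRing S] (𝔪 : Ideal S) [h𝔪 : 𝔪.IsPrime]
  {M : Type u} [AddCommGroup M] [Module S M]
  (rk : ℕ → ℕ) (d : ∀ i, Matrix (Fin (rk i)) (Fin (rk (i + 1))) S) (aug : Fin (rk 0) → M)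
  (haug : Function.Surjective (Fintype.linearCombination S aug))
  (h0 : LinearMap.ker (Fintype.linearCombination S aug) =
    LinearMap.range (Matrix.mulVecLin (d 0)))
  (hs : ∀ i, LinearMap.ker (Matrix.mulVecLin (d i)) =
    LinearMap.range (Matrix.mulVecLin (d (i + 1))))
  (hmin : ∀ (i : ℕ) (a : Fin (rk i)) (b : Fin (rk (i + 1))), d i a b ∈ 𝔪)

omit [IsNoetherianRing S] h𝔪 in
lemma mem_smul_top_of_forall_mem {r : ℕ} (v : Fin r → S) (hv : ∀ a, v a ∈ 𝔪) :
    v ∈ 𝔪 • (⊤ : Submodule S (Fin r → S)) := by
  have h1 : v = ∑ a, v a • (Pi.single a 1 : Fin r → S) := by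
    funext c
    rw [Finset.sum_apply]
    simp [Pi.single_apply]
  rw [h1]
  exact Submodule.sum_mem _ fun a _ => Submodule.smul_mem_smul (hv a) Submodule.mem_top

omit [IsNoetherianRing S] h𝔪 in
include hmin in
lemma Kr_le (i : ℕ) : Kr rk d i ≤ 𝔪 • (⊤ : Submodule S (Fin (rk i) → S)) := by
  rintro v ⟨w, rfl⟩
  apply mem_smul_top_of_forall_mem
  intro a
  rw [Matrix.mulVecLin_apply, Matrix.mulVec]
  exact Ideal.sum_mem _ fun b _ => Ideal.mul_mem_right _ _ (hmin i a b)

omit [IsNoetherianRing S] in
lemma Kr_eq_bot (i : ℕ) (h : rk (i + 1) = 0) : Kr rk d i = ⊥ := by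
  haveI : IsEmpty (Fin (rk (i + 1))) := by rw [h]; infer_instance
  rw [eq_bot_iff]
  rintro v ⟨w, rfl⟩
  rw [Subsingleton.elim w 0, map_zero]
  exact Submodule.zero_mem _

omit [IsNoetherianRing S] in
include h0 in
lemma exact_zero : Function.Exact (Kr rk d 0).subtype (Fintype.linearCombination S aug) := by
  rw [LinearMap.exact_iff, h0, Submodule.range_subtype]
  rfl

omit [IsNoetherianRing S] in
include hs in
lemma dR_injective (i : ℕ) (h : Kr rk d (i + 1) = ⊥) : Function.Injective (dR rk d i) := by
  rw [← LinearMap.ker_eq_bot, eq_bot_iff]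
  intro v hv
  have h1 : Matrix.mulVecLin (d i) v = 0 := by
    rw [← coe_dR, LinearMap.mem_ker.mp hv]; rfl
  have h2 : v ∈ Kr rk d (i + 1) := by
    unfold Kr
    rw [← hs i]; exact h1
  rw [h] at h2
  exact h2

include haug h0 hs hmin in
/-- the localization at `𝔪` of a module with an `𝔪`-minimal finite free resolution of length
exactly `ℓ` has projective dimension `ℓ` -/
theorem projectiveDimension_loc_eq (ℓ : ℕ) (hℓ : ∀ i, ℓ < i → rk i = 0) (hℓ' : rk ℓ ≠ 0) :
    projectiveDimension (ModuleCat.of (Localization.AtPrime 𝔪)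
      (LocalizedModule 𝔪.primeCompl M)) = ℓ := by
  apply le_antisymm
  · rw [projectiveDimension_le_iff]
    have h1 := pdLT_Kr_of_eq_bot 𝔪 rk d hs ℓ 0
      (by rw [zero_add]; exact Kr_eq_bot rk d ℓ (hℓ _ (Nat.lt_succ_self ℓ)))
    exact pdLT_X₃ 𝔪.primeCompl (Kr rk d 0).subtype (Fintype.linearCombination S aug)
      (Submodule.subtype_injective _) haug (exact_zero rk d aug h0) ℓ h1
  · rw [projectiveDimension_ge_iff]
    intro hlt
    match ℓ, hℓ, hℓ', hlt with
    | 0, hℓ, hℓ', hlt =>
      have hz := isZero_of_hasProjectiveDimensionLT_zero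
        (X := ModuleCat.of (Localization.AtPrime 𝔪) (LocalizedModule 𝔪.primeCompl M))
      have hsub : Subsingleton (LocalizedModule 𝔪.primeCompl M) :=
        ModuleCat.subsingleton_of_isZero hz
      have hK0 : Kr rk d 0 = ⊥ := Kr_eq_bot rk d 0 (hℓ 1 Nat.one_pos)
      have hinj : Function.Injective (Fintype.linearCombination S aug) := by
        rw [← LinearMap.ker_eq_bot, h0]
        exact hK0
      exact not_subsingleton_loc_of_injective 𝔪 hℓ' _ hinj hsub
    | 1, hℓ, hℓ', hlt =>
      have hproj : Projective (ModuleCat.of (Localization.AtPrime 𝔪)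
          (LocalizedModule 𝔪.primeCompl M)) := inferInstance
      have hsub := subsingleton_loc_of_projective 𝔪 (Kr rk d 0) (Kr_le 𝔪 rk d hmin 0)
        (Fintype.linearCombination S aug) haug (exact_zero rk d aug h0) hproj
      have hK1 : Kr rk d 1 = ⊥ := Kr_eq_bot rk d 1 (hℓ 2 (by omega))
      exact not_subsingleton_loc_of_injective 𝔪 hℓ' (dR rk d 0) (dR_injective rk d hs 0 hK1) hsub
    | m + 2, hℓ, hℓ', hlt =>
      have h1 := pdLT_X₁ 𝔪.primeCompl (Kr rk d 0).subtype (Fintype.linearCombination S aug)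
        (Submodule.subtype_injective _) haug (exact_zero rk d aug h0) m hlt
      have h2 := pdLT_Kr_shift 𝔪 rk d hs m 0 h1
      rw [zero_add] at h2
      have hproj : Projective (ModuleCat.of (Localization.AtPrime 𝔪)
          (LocalizedModule 𝔪.primeCompl (Kr rk d m))) := inferInstance
      have hsub := subsingleton_loc_of_projective 𝔪 (Kr rk d (m + 1)) (Kr_le 𝔪 rk d hmin (m + 1))
        (dR rk d m) (dR_surjective rk d m) (exact_step rk d hs m) hproj
      have hK : Kr rk d (m + 2) = ⊥ := Kr_eq_bot rk d (m + 2) (hℓ (m + 3) (by omega))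
      exact not_subsingleton_loc_of_injective 𝔪 hℓ' (dR rk d (m + 1))
        (dR_injective rk d hs (m + 1) hK) hsub

end Main

end Groth.Agent.Helper2.GrAB
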